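import Groth.Prelude.Def_W4c5stacksedinertiaGpd
import Mathlib.GroupTheory.Coset.Card
import Mathlib.LinearAlgebra.Eigenspace.Basic
import Mathlib.Data.Fintype.CardEmbedding
import Mathlib.Algebra.Module.BigOperators
import Mathlib.Algebra.BigOperators.Group.Finset.Sigma
import Mathlib.Algebra.BigOperators.Fin
import Mathlib.Algebra.Field.Rat
import Mathlib.Data.Fintype.BigOperators
import Mathlib.Tactic.LinearCombination
import Mathlib.Tactic.Ring

/-!
# Inertia operators on classes of finite groups: mass formula, recursion, triangularity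
-/

set_option backward.isDefEq.respectTransparency false
set_option backward.isDefEq.respectTransparency.types false

universe u v

open W4c5stacksedinertia

namespace Groth.Agent.GrpoidInertia

noncomputable instance commTupleFintype (G : Type u) [Group G] [Finite G] (r : ℕ) :
    Fintype (CommTuple G r) := Fintype.ofFinite { s : Fin r → G // Function.Injective s ∧ ∀ i j, Commute (s i) (s j) }

noncomputable instance orbitFintype (G : Type u) [Group G] [Finite G] (r : ℕ) : Fintype (CommTuple.Orbit G r) :=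
  haveI : Finite (CommTuple.Orbit G r) := inferInstanceAs (Finite (Quotient (CommTuple.setoid G r)))
  Fintype.ofFinite _

lemma nonempty_carrier_of (G : Type u) [Group G] [Finite G] : Nonempty ((FinGrp.of G).carrier ≃* G) :=
  ⟨{ (Nat.equivFinOfCardPos (α := G) Nat.card_pos.ne').symm with
     map_mul' := fun x y => (Nat.equivFinOfCardPos (α := G) Nat.card_pos.ne').symm.apply_symm_apply _ }⟩

lemma of_congr {G : Type u} {H : Type v} [Group G] [Finite G] [Group H] [Finite H] (e : G ≃* H) :
    Idx.of G = Idx.of H :=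
  Quotient.sound ⟨(((nonempty_carrier_of G).some).trans e).trans (nonempty_carrier_of H).some.symm⟩

lemma nonempty_rep_of (G : Type u) [Group G] [Finite G] : Nonempty ((Idx.of G).rep ≃* G) :=
  ⟨(Quotient.exact (Quotient.out_eq (Idx.of G)) : Nonempty _).some.trans (nonempty_carrier_of G).some⟩

lemma of_rep (i : Idx) : Idx.of i.rep = i :=
  (Quotient.sound (nonempty_carrier_of i.rep) : _).trans (Quotient.out_eq (s := FinGrp.setoid) i)

lemma card_of (G : Type u) [Group G] [Finite G] : (Idx.of G).card = Nat.card G :=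
  Nat.card_congr (nonempty_rep_of G).some.toEquiv

lemma centerCard_of (G : Type u) [Group G] [Finite G] : (Idx.of G).centerCard = Nat.card (Subgroup.center G) :=
  Nat.card_congr (Subgroup.centerCongr (nonempty_rep_of G).some).toEquiv

lemma centerCard_pos (i : Idx) : 0 < i.centerCard := Nat.card_pos

lemma cl_congr {G : Type u} {H : Type v} [Group G] [Finite G] [Group H] [Finite H] (e : G ≃* H) :
    cl G = cl H := by rw [cl, cl, of_congr e]

lemma single_eq_cl (i : Idx) : (Finsupp.single i 1 : K) = cl i.rep := by rw [cl, of_rep]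

/-- The class of a group weighted by its order. -/
noncomputable def mass (G : Type u) [Group G] [Finite G] : K := (Nat.card G : ℚ) • cl G

lemma mass_congr {G : Type u} {H : Type v} [Group G] [Finite G] [Group H] [Finite H] (e : G ≃* H) :
    mass G = mass H := by rw [mass, mass, cl_congr e, Nat.card_congr e.toEquiv]

section

variable {G : Type u} [Group G]

/-- The common centralizer of a tuple. -/
abbrev Z {r : ℕ} (s : CommTuple G r) : Subgroup G := Subgroup.centralizer (Set.range s.1)

lemma mem_Z {r : ℕ} {s : CommTuple G r} {g : G} : g ∈ Z s ↔ ∀ i, s.1 i * g = g * s.1 i := by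
  simp [Z, Subgroup.mem_centralizer_iff]

lemma mem_Z_conj {r : ℕ} {s t : CommTuple G r} {g : G} (h : ∀ i, g * s.1 i * g⁻¹ = t.1 i) (x : G) :
    g * x * g⁻¹ ∈ Z t ↔ x ∈ Z s := by
  have key : ∀ a b : G, g * a * g⁻¹ * (g * b * g⁻¹) = g * (a * b) * g⁻¹ := fun a b => by group
  simp only [mem_Z, ← h, key, mul_left_inj, mul_right_inj]

/-- Conjugate tuples have isomorphic centralizers. -/
noncomputable def zConj {r : ℕ} {s t : CommTuple G r} {g : G} (h : ∀ i, g * s.1 i * g⁻¹ = t.1 i) : Z s ≃* Z t where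
  toFun x := ⟨g * x.1 * g⁻¹, (mem_Z_conj h _).2 x.2⟩
  invFun y := ⟨g⁻¹ * y.1 * g, (mem_Z_conj h _).1 (by
    have : g * (g⁻¹ * y.1 * g) * g⁻¹ = y.1 := by group
    rw [this]; exact y.2)⟩
  left_inv x := Subtype.ext (show g⁻¹ * (g * x.1 * g⁻¹) * g = x.1 by group)
  right_inv y := Subtype.ext (show g * (g⁻¹ * y.1 * g) * g⁻¹ = y.1 by group)
  map_mul' x y := Subtype.ext (show g * (x.1 * y.1) * g⁻¹ = g * x.1 * g⁻¹ * (g * y.1 * g⁻¹) by group)

variable [Finite G]

lemma mass_eq_of_rel {r : ℕ} {s t : CommTuple G r} (h : CommTuple.setoid G r s t) : mass (Z s) = mass (Z t) := by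
  obtain ⟨g, hg⟩ := h
  exact mass_congr (zConj hg)

lemma card_fibre {r : ℕ} (s : CommTuple G r) :
    Nat.card {t : CommTuple G r // CommTuple.setoid G r s t} * Nat.card (Z s) = Nat.card G := by
  let act : G → {t : CommTuple G r // CommTuple.setoid G r s t} := fun g =>
    ⟨⟨fun i => g * s.1 i * g⁻¹,
      fun i j h => s.2.1 (mul_left_cancel (mul_right_cancel h)),
      fun i j => by
        show g * s.1 i * g⁻¹ * (g * s.1 j * g⁻¹) = g * s.1 j * g⁻¹ * (g * s.1 i * g⁻¹)
        calc g * s.1 i * g⁻¹ * (g * s.1 j * g⁻¹) = g * (s.1 i * s.1 j) * g⁻¹ := by group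
          _ = g * (s.1 j * s.1 i) * g⁻¹ := by rw [(s.2.2 i j).eq]
          _ = _ := by group⟩,
      g, fun i => rfl⟩
  have hiff : ∀ a b : G, act a = act b ↔ a⁻¹ * b ∈ Z s := by
    intro a b
    rw [mem_Z]
    constructor
    · intro hab i
      have h : a * s.1 i * a⁻¹ = b * s.1 i * b⁻¹ := congrFun (congrArg (fun x => x.1.1) hab) i
      calc s.1 i * (a⁻¹ * b) = a⁻¹ * (a * s.1 i * a⁻¹) * b := by group
        _ = a⁻¹ * (b * s.1 i * b⁻¹) * b := by rw [h]
        _ = _ := by group
    · intro hab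
      refine Subtype.ext (Subtype.ext (funext fun i => ?_))
      have h := hab i
      show a * s.1 i * a⁻¹ = b * s.1 i * b⁻¹
      calc a * s.1 i * a⁻¹ = a * (s.1 i * (a⁻¹ * b)) * b⁻¹ := by group
        _ = a * (a⁻¹ * b * s.1 i) * b⁻¹ := by rw [h]
        _ = _ := by group
  let F : G ⧸ Z s → {t : CommTuple G r // CommTuple.setoid G r s t} :=
    Quotient.lift act (fun a b h => (hiff a b).2 (QuotientGroup.leftRel_apply.1 h))
  have hF : Function.Bijective F := by
    constructor
    · intro a b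
      induction a using Quotient.inductionOn with
      | h a =>
        induction b using Quotient.inductionOn with
        | h b => exact fun h => QuotientGroup.eq.2 ((hiff a b).1 h)
    · rintro ⟨t, g, hg⟩
      exact ⟨QuotientGroup.mk g, Subtype.ext (Subtype.ext (funext hg))⟩
  rw [← Nat.card_congr (Equiv.ofBijective F hF), ← Subgroup.card_eq_card_quotient_mul_card_subgroup]

/-- The mass formula. -/
theorem card_smul_inertiaROf (r : ℕ) :
    (Nat.card G : ℚ) • inertiaROf r G = ∑ s : CommTuple G r, mass (Z s) := by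
  classical
  rw [inertiaROf, finsum_eq_sum_of_fintype, Finset.smul_sum,
    ← Fintype.sum_fiberwise (κ := CommTuple.Orbit G r) (fun s => Quotient.mk (CommTuple.setoid G r) s) (fun s => mass (Z s))]
  refine Finset.sum_congr rfl fun O _ => ?_
  let s₀ : CommTuple G r := Quotient.out (s := CommTuple.setoid G r) O
  let E : {t : CommTuple G r // CommTuple.setoid G r s₀ t} ≃ {t // Quotient.mk (CommTuple.setoid G r) t = O} :=
    Equiv.subtypeEquivRight fun t => ⟨fun h => ((Quotient.sound h : _).symm).trans (Quotient.out_eq O),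
      fun h => Quotient.exact ((Quotient.out_eq O).trans h.symm)⟩
  have hc : ∀ t : {t // Quotient.mk (CommTuple.setoid G r) t = O}, mass (Z t.1) = mass (Z s₀) := fun t =>
    (mass_eq_of_rel (E.symm t).2).symm
  refine Eq.trans ?_ (Finset.sum_congr rfl (fun t _ => hc t)).symm
  have hcard : ∀ inst : Fintype {t // Quotient.mk (CommTuple.setoid G r) t = O},
      (@Finset.univ _ inst).card = Nat.card {t : CommTuple G r // CommTuple.setoid G r s₀ t} := fun inst =>
    ((Nat.card_congr E).trans (@Nat.card_eq_fintype_card _ inst)).symm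
  rw [Finset.sum_const, hcard, mass, ← Nat.cast_smul_eq_nsmul ℚ, smul_smul, ← Nat.cast_mul, card_fibre s₀]

end

/-- Transport of tuples along an isomorphism. -/
def tupleEquiv {G : Type u} {H : Type v} [Group G] [Group H] (e : G ≃* H) (r : ℕ) :
    CommTuple G r ≃ CommTuple H r where
  toFun s := ⟨e ∘ s.1, e.injective.comp s.2.1, fun i j => (s.2.2 i j).map e⟩
  invFun s := ⟨e.symm ∘ s.1, e.symm.injective.comp s.2.1, fun i j => (s.2.2 i j).map e.symm⟩
  left_inv s := Subtype.ext (funext fun i => e.symm_apply_apply _)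
  right_inv s := Subtype.ext (funext fun i => e.apply_symm_apply _)

lemma inertiaR_mass (r : ℕ) (G : Type u) [Group G] [Finite G] :
    inertiaR r (mass G) = ∑ s : CommTuple G r, mass (Z s) := by
  obtain ⟨e⟩ := nonempty_rep_of G
  rw [mass, map_smul, cl, inertiaR, Finsupp.linearCombination_single, one_smul,
    ← Nat.card_congr e.toEquiv, card_smul_inertiaROf]
  refine Fintype.sum_equiv (tupleEquiv e r) _ _ fun s => mass_congr
    ({ toFun := fun x => ⟨e x.1, mem_Z.2 fun i => by
          show e (s.1 i) * e x.1 = e x.1 * e (s.1 i)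
          rw [← map_mul, ← map_mul, mem_Z.1 x.2 i]⟩
       invFun := fun y => ⟨e.symm y.1, mem_Z.2 fun i => by
          apply e.injective
          rw [map_mul, map_mul, MulEquiv.apply_symm_apply]
          exact mem_Z.1 y.2 i⟩
       left_inv := fun x => Subtype.ext (e.symm_apply_apply _)
       right_inv := fun y => Subtype.ext (e.apply_symm_apply _)
       map_mul' := fun x y => Subtype.ext (e.map_mul _ _) } : _ ≃* _)

section

variable {G : Type u} [Group G]

lemma range_mem_Z {r : ℕ} (s : CommTuple G r) (i : Fin r) : s.1 i ∈ Z s := mem_Z.2 fun j => s.2.2 j i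

/-- `1`-tuples are elements. -/
def oneEquiv (G : Type u) [Group G] : G ≃ CommTuple G 1 where
  toFun g := ⟨fun _ => g, fun i j _ => Subsingleton.elim i j, fun _ _ => Commute.refl g⟩
  invFun s := s.1 0
  left_inv _ := rfl
  right_inv s := Subtype.ext (funext fun i => congrArg s.1 (Subsingleton.elim _ _))

/-- Adding a new entry to a tuple. -/
def consEquiv (r : ℕ) :
    (Σ s : CommTuple G r, {g : Z s // g.1 ∉ Set.range s.1}) ≃ CommTuple G (r + 1) where
  toFun p := ⟨Fin.cons p.2.1.1 p.1.1, Fin.cons_injective_iff.2 ⟨p.2.2, p.1.2.1⟩, by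
    intro i j
    refine Fin.cases (Fin.cases (Commute.refl _) (fun b => ?_) j) (fun a => Fin.cases ?_ (fun b => ?_) j) i
    · exact (mem_Z.1 p.2.1.2 b).symm
    · exact mem_Z.1 p.2.1.2 a
    · exact p.1.2.2 a b⟩
  invFun t := ⟨⟨Fin.tail t.1, t.2.1.comp (Fin.succ_injective _), fun i j => t.2.2 i.succ j.succ⟩,
    ⟨⟨t.1 0, mem_Z.2 fun i => t.2.2 i.succ 0⟩,
      fun ⟨i, hi⟩ => Fin.succ_ne_zero i (t.2.1 hi)⟩⟩
  left_inv p := by
    obtain ⟨⟨s, hs⟩, ⟨⟨g, hg⟩, hg'⟩⟩ := p
    rfl
  right_inv t := Subtype.ext (Fin.cons_self_tail t.1)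

variable [Finite G]

lemma mass_Z_Z {r : ℕ} (s : CommTuple G r) (g : Z s) :
    mass (Z (G := Z s) (oneEquiv _ g)) = mass (Subgroup.centralizer (insert g.1 (Set.range s.1))) := by
  have ha : ∀ x : Z (G := Z s) (oneEquiv _ g), x.1.1 ∈ Subgroup.centralizer (insert g.1 (Set.range s.1)) := by
    rintro x z (rfl | ⟨i, rfl⟩)
    · exact congrArg Subtype.val (mem_Z.1 x.2 0)
    · exact mem_Z.1 x.1.2 i
  have hb : ∀ y : Subgroup.centralizer (insert g.1 (Set.range s.1)), y.1 ∈ Z s :=
    fun y => mem_Z.2 fun i => y.2 _ (Or.inr ⟨i, rfl⟩)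
  exact mass_congr
    ({ toFun := fun x => ⟨x.1.1, ha x⟩
       invFun := fun y => ⟨⟨y.1, hb y⟩, mem_Z.2 fun _ => Subtype.ext (y.2 _ (Or.inl rfl))⟩
       left_inv := fun _ => rfl
       right_inv := fun _ => rfl
       map_mul' := fun _ _ => rfl } : _ ≃* _)

theorem inertia_inertiaR_mass (r : ℕ) :
    inertia (inertiaR r (mass G)) = inertiaR (r + 1) (mass G) + (r : ℚ) • inertiaR r (mass G) := by
  classical
  haveI : ∀ s : CommTuple G r, Fintype (Z s) := fun _ => Fintype.ofFinite _
  let f : ∀ s : CommTuple G r, Z s → K := fun s g => mass (Subgroup.centralizer (insert g.1 (Set.range s.1)))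
  have h1 : ∀ s : CommTuple G r, inertia (mass (Z s)) = ∑ g : Z s, f s g := fun s => by
    rw [inertia, inertiaR_mass, ← Fintype.sum_equiv (oneEquiv (Z s)) _ _ fun g => rfl]
    exact Fintype.sum_congr _ _ fun g => mass_Z_Z s g
  have h2 : ∀ s : CommTuple G r, ∑ g : Z s, f s g =
      (∑ g : {g : Z s // g.1 ∉ Set.range s.1}, f s g.1) + (r : ℚ) • mass (Z s) := fun s => by
    rw [← Fintype.sum_subtype_add_sum_subtype (fun g : Z s => g.1 ∉ Set.range s.1) (f s)]
    congr 1
    let E : Fin r ≃ {g : Z s // ¬ g.1 ∉ Set.range s.1} :=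
      Equiv.ofBijective (fun i => ⟨⟨s.1 i, range_mem_Z s i⟩, fun h => h ⟨i, rfl⟩⟩)
        ⟨fun i j h => s.2.1 (congrArg (fun x => x.1.1) h), fun g => by
          obtain ⟨i, hi⟩ := not_not.1 g.2
          exact ⟨i, Subtype.ext (Subtype.ext hi)⟩⟩
    rw [← Fintype.sum_equiv E (fun i => f s (E i).1) _ fun i => rfl]
    have : ∀ i, f s (E i).1 = mass (Z s) := fun i => by
      refine mass_congr (MulEquiv.subgroupCongr ?_)
      exact congrArg Subgroup.centralizer (Set.insert_eq_of_mem ⟨i, rfl⟩)
    rw [Fintype.sum_congr _ _ this, Finset.sum_const, Finset.card_univ, Fintype.card_fin, Nat.cast_smul_eq_nsmul]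
  rw [inertiaR_mass r, map_sum, Fintype.sum_congr _ _ h1, Fintype.sum_congr _ _ h2, Finset.sum_add_distrib,
    Finset.smul_sum, inertiaR_mass (r + 1), ← Fintype.sum_sigma']
  congr 1
  refine Fintype.sum_equiv (consEquiv r) _ _ fun p => mass_congr (MulEquiv.subgroupCongr ?_)
  exact congrArg Subgroup.centralizer (Fin.range_cons _ _).symm

end

lemma linearMap_ext_mass {f g : K →ₗ[ℚ] K} (h : ∀ (G : Type) [Group G] [Finite G], f (mass G) = g (mass G)) :
    f = g := by
  refine Finsupp.lhom_ext fun i b => ?_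
  have hne : (Nat.card i.rep : ℚ) ≠ 0 := Nat.cast_ne_zero.2 Nat.card_pos.ne'
  have h' := h i.rep
  rw [mass, map_smul, map_smul] at h'
  have h1 := smul_right_injective K hne h'
  rw [← mul_one b, ← smul_eq_mul, ← Finsupp.smul_single, single_eq_cl, map_smul, map_smul, h1]

theorem inertiaR_succ (r : ℕ) (v : K) :
    inertiaR (r + 1) v = inertia (inertiaR r v) - (r : ℚ) • inertiaR r v := by
  have : inertia ∘ₗ inertiaR r = inertiaR (r + 1) + (r : ℚ) • inertiaR r :=
    linearMap_ext_mass fun G _ _ => inertia_inertiaR_mass r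
  rw [eq_sub_iff_add_eq]
  exact (LinearMap.congr_fun this v).symm

theorem inertiaR_zero : inertiaR 0 = LinearMap.id := by
  refine linearMap_ext_mass fun G _ _ => ?_
  rw [inertiaR_mass, LinearMap.id_apply]
  haveI : Unique (CommTuple G 0) :=
    { default := ⟨Fin.elim0, fun i => i.elim0, fun i => i.elim0⟩
      uniq := fun s => Subtype.ext (funext fun i => i.elim0) }
  rw [Fintype.sum_unique]
  refine mass_congr ((MulEquiv.subgroupCongr ?_).trans Subgroup.topEquiv)
  rw [eq_top_iff]
  exact fun g _ => mem_Z.2 fun i => i.elim0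

section Triangular

variable {G : Type u} [Group G] [Finite G]

lemma centralizer_facts {r : ℕ} (s : CommTuple G r) (h : ¬ ∀ i, s.1 i ∈ Subgroup.center G) :
    Nat.card (Subgroup.center G) < Nat.card (Subgroup.center (Z s)) ∧ Nat.card (Z s) < Nat.card G := by
  push Not at h
  obtain ⟨i, hi⟩ := h
  refine ⟨?_, ?_⟩
  · let j : Subgroup.center G → Subgroup.center (Z s) := fun z =>
      ⟨⟨z.1, mem_Z.2 fun k => Subgroup.mem_center_iff.1 z.2 _⟩,
        Subgroup.mem_center_iff.2 fun x => Subtype.ext (Subgroup.mem_center_iff.1 z.2 x.1)⟩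
    haveI := Fintype.ofFinite (Subgroup.center G)
    haveI := Fintype.ofFinite (Subgroup.center (Z s))
    rw [Nat.card_eq_fintype_card, Nat.card_eq_fintype_card]
    refine Fintype.card_lt_of_injective_of_notMem j
      (fun a b e => Subtype.ext (congrArg (fun x => x.1.1) e))
      (b := ⟨⟨s.1 i, range_mem_Z s i⟩, Subgroup.mem_center_iff.2 fun x => Subtype.ext (mem_Z.1 x.2 i).symm⟩) ?_
    rintro ⟨z, hz⟩
    exact hi ((congrArg (fun x => x.1.1) hz : z.1 = s.1 i) ▸ z.2)
  · refine lt_of_le_of_ne (Subgroup.card_le_card_group _) fun e => hi ?_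
    have htop : Z s = ⊤ := Subgroup.card_eq_iff_eq_top (Z s) |>.1 e
    exact Subgroup.mem_center_iff.2 fun g => (mem_Z.1 (htop ▸ Subgroup.mem_top g : g ∈ Z s) i).symm

theorem inertiaR_cl_sub_mem (r : ℕ) :
    inertiaR r (cl G) - ((Nat.card (Subgroup.center G)).descFactorial r : ℚ) • cl G ∈
      Finsupp.supported ℚ ℚ {j : Idx | Nat.card (Subgroup.center G) < j.centerCard ∧ j.card < Nat.card G} := by
  classical
  have hne : (Nat.card G : ℚ) ≠ 0 := Nat.cast_ne_zero.2 Nat.card_pos.ne'
  rw [← Submodule.smul_mem_iff _ hne, smul_sub, ← map_smul, smul_comm, ← mass, inertiaR_mass,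
    ← Fintype.sum_subtype_add_sum_subtype (fun s : CommTuple G r => ∀ i, s.1 i ∈ Subgroup.center G)]
  have hc : ∀ s : {s : CommTuple G r // ∀ i, s.1 i ∈ Subgroup.center G}, mass (Z s.1) = mass G := fun s =>
    mass_congr ((MulEquiv.subgroupCongr (by
      rw [eq_top_iff]
      exact fun g _ => mem_Z.2 fun i => (Subgroup.mem_center_iff.1 (s.2 i) g).symm)).trans Subgroup.topEquiv)
  let E : (Fin r ↪ Subgroup.center G) ≃ {s : CommTuple G r // ∀ i, s.1 i ∈ Subgroup.center G} :=
    { toFun := fun e => ⟨⟨fun i => (e i).1, Subtype.val_injective.comp e.injective,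
        fun i j => (Subgroup.mem_center_iff.1 (e i).2 (e j).1).symm⟩, fun i => (e i).2⟩
      invFun := fun s => ⟨fun i => ⟨s.1.1 i, s.2 i⟩, fun i j e => s.1.2.1 (congrArg Subtype.val e)⟩
      left_inv := fun _ => rfl
      right_inv := fun _ => rfl }
  haveI := Fintype.ofFinite (Subgroup.center G)
  rw [Fintype.sum_congr _ _ hc, Finset.sum_const, Finset.card_univ, ← Fintype.card_congr E,
    Fintype.card_embedding_eq, Fintype.card_fin, ← Nat.card_eq_fintype_card, ← Nat.cast_smul_eq_nsmul ℚ,
    add_sub_cancel_left]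
  refine Submodule.sum_mem _ fun s _ => Submodule.smul_mem _ _ ?_
  obtain ⟨h₁, h₂⟩ := centralizer_facts s.1 s.2
  refine Finsupp.single_mem_supported ℚ 1 ?_
  show Nat.card (Subgroup.center G) < (Idx.of (Z s.1)).centerCard ∧ (Idx.of (Z s.1)).card < Nat.card G
  rw [centerCard_of, card_of]
  exact ⟨h₁, h₂⟩

end Triangular

end Groth.Agent.GrpoidInertia
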