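import Groth.Agent.GrpoidInertia.Basic

/-!
# Spectral decomposition of the inertia operator
-/

set_option backward.isDefEq.respectTransparency false
set_option backward.isDefEq.respectTransparency.types false

open W4c5stacksedinertia

namespace Groth.Agent.GrpoidInertia

lemma inertiaR_single_sub_mem (r : ℕ) (i : Idx) :
    inertiaR r (Finsupp.single i 1) - (i.centerCard.descFactorial r : ℚ) • Finsupp.single i 1 ∈
      Finsupp.supported ℚ ℚ {j : Idx | i.centerCard < j.centerCard ∧ j.card < i.card} := by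
  rw [single_eq_cl]
  exact inertiaR_cl_sub_mem r

lemma inertiaR_sub_mem_Kge (r k : ℕ) {v : K} (hv : v ∈ Kge k) :
    inertiaR r v - (k.descFactorial r : ℚ) • v ∈ Kge (k + 1) := by
  rw [← Finsupp.sum_single v, Finsupp.sum, map_sum, Finset.smul_sum, ← Finset.sum_sub_distrib]
  refine Submodule.sum_mem _ fun i hi => ?_
  have hk : k ≤ i.centerCard := (Finsupp.mem_supported ℚ v).1 hv hi
  rw [← mul_one (v i), ← smul_eq_mul, ← Finsupp.smul_single, map_smul, smul_comm _ (v i), ← smul_sub]
  refine Submodule.smul_mem _ _ ?_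
  rcases hk.eq_or_lt with rfl | h
  · exact Finsupp.supported_mono (fun j hj => hj.1) (inertiaR_single_sub_mem r i)
  · have h1 : inertiaR r (Finsupp.single i 1) - (i.centerCard.descFactorial r : ℚ) • Finsupp.single i 1 ∈
        Kge (k + 1) :=
      Finsupp.supported_mono (fun j hj => le_trans (Nat.succ_le_of_lt (lt_of_le_of_lt hk hj.1)) le_rfl)
        (inertiaR_single_sub_mem r i)
    have h2 : (Finsupp.single i 1 : K) ∈ Kge (k + 1) := Finsupp.single_mem_supported ℚ 1 (Nat.succ_le_of_lt h)
    have := Submodule.add_mem _ h1 ((Kge (k + 1)).smul_mem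
      ((i.centerCard.descFactorial r : ℚ) - (k.descFactorial r : ℚ)) h2)
    convert this using 1
    rw [sub_smul]
    abel

lemma inertiaR_eigen {k : ℕ} {v : K} (hv : v ∈ Module.End.eigenspace inertia (k : ℚ)) (r : ℕ) :
    inertiaR r v = (k.descFactorial r : ℚ) • v := by
  induction r with
  | zero => simp [inertiaR_zero]
  | succ r ih =>
    rw [inertiaR_succ, ih, map_smul, Module.End.mem_eigenspace_iff.1 hv, smul_smul, smul_smul, ← sub_smul]
    congr 1
    rw [Nat.descFactorial_succ]
    rcases le_or_gt r k with h | h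
    · rw [Nat.cast_mul, Nat.cast_sub h]; ring
    · rw [Nat.descFactorial_eq_zero_iff_lt.2 h]; simp

/-- Eigenvectors for `n` inside the filtration step `n`. -/
noncomputable def W (n : ℕ) : Submodule ℚ K := Module.End.eigenspace inertia (n : ℚ) ⊓ Kge n

lemma single_sub_exists (i : Idx) :
    ∃ w ∈ ⨆ n > i.centerCard, W n, (Finsupp.single i 1 : K) - w ∈ W i.centerCard := by
  generalize hN : i.card = N
  induction N using Nat.strong_induction_on generalizing i with
  | _ N ih =>
    set k := i.centerCard with hk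
    have hmem : inertia (Finsupp.single i 1) - (k : ℚ) • Finsupp.single i 1 ∈ ⨆ n > k, W n := by
      have h := inertiaR_single_sub_mem 1 i
      rw [Nat.descFactorial_one] at h
      have hle : Finsupp.supported ℚ ℚ {j : Idx | k < j.centerCard ∧ j.card < i.card} ≤ ⨆ n > k, W n := by
        rw [Finsupp.supported_eq_span_single, Submodule.span_le]
        rintro _ ⟨j, ⟨hj, hj'⟩, rfl⟩
        obtain ⟨w, hw, hw'⟩ := ih j.card (hN ▸ hj') j rfl
        have h1 : w ∈ ⨆ n > k, W n :=
          (iSup₂_le fun n hn => le_biSup (f := W) (lt_trans hj hn) : (⨆ n > j.centerCard, W n) ≤ _) hw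
        have h2 : (Finsupp.single j 1 : K) - w ∈ ⨆ n > k, W n := le_biSup (f := W) hj hw'
        simpa using Submodule.add_mem _ h2 h1
      exact hle h
    have hdiv : (⨆ n > k, W n) ≤ Submodule.map (inertia - (k : ℚ) • LinearMap.id) (⨆ n > k, W n) := by
      refine iSup₂_le fun n hn v hv => ?_
      have hne : (n : ℚ) - k ≠ 0 := sub_ne_zero.2 (by exact_mod_cast (ne_of_gt hn))
      refine ⟨((n : ℚ) - k)⁻¹ • v, le_biSup (f := W) hn ((W n).smul_mem _ hv), ?_⟩
      rw [map_smul, LinearMap.sub_apply, LinearMap.smul_apply, LinearMap.id_apply,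
        Module.End.mem_eigenspace_iff.1 hv.1, ← sub_smul, smul_smul, inv_mul_cancel₀ hne, one_smul]
    obtain ⟨w, hw, hwe⟩ := hdiv hmem
    refine ⟨w, hw, ?_, ?_⟩
    · rw [SetLike.mem_coe, Module.End.mem_eigenspace_iff, map_sub, smul_sub]
      rw [LinearMap.sub_apply, LinearMap.smul_apply, LinearMap.id_apply] at hwe
      rw [sub_eq_sub_iff_sub_eq_sub, hwe]
    · exact Submodule.sub_mem _ (Finsupp.single_mem_supported ℚ 1 (show k ≤ i.centerCard from le_rfl))
        ((iSup₂_le fun n hn => inf_le_right.trans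
          (Finsupp.supported_mono fun j hj => le_trans (le_of_lt hn) hj) : (⨆ n > k, W n) ≤ Kge k) hw)

theorem iSup_eigenspace_eq_top : (⨆ n : ℕ, Module.End.eigenspace inertia (n : ℚ)) = ⊤ := by
  have key : ∀ i : Idx, (Finsupp.single i 1 : K) ∈ ⨆ n : ℕ, Module.End.eigenspace inertia (n : ℚ) := by
    intro i
    obtain ⟨w, hw, hw'⟩ := single_sub_exists i
    have := Submodule.add_mem _ (Submodule.mem_iSup_of_mem i.centerCard hw'.1)
      ((iSup₂_le fun n _ => inf_le_left.trans (le_iSup (fun n : ℕ => Module.End.eigenspace inertia (n : ℚ)) n) :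
        (⨆ n > i.centerCard, W n) ≤ _) hw)
    simpa using this
  rw [eq_top_iff]
  intro v _
  rw [← Finsupp.sum_single v]
  refine Submodule.sum_mem _ fun i _ => ?_
  show Finsupp.single i (v i) ∈ _
  rw [← mul_one (v i), ← smul_eq_mul, ← Finsupp.smul_single]
  exact Submodule.smul_mem _ _ (key i)

theorem iSup_succ_eigenspace_eq_top :
    (⨆ n : ℕ, Module.End.eigenspace inertia (((n + 1 : ℕ) : ℚ))) = ⊤ := by
  have key : ∀ i : Idx, (Finsupp.single i 1 : K) ∈ ⨆ n : ℕ, Module.End.eigenspace inertia (((n + 1 : ℕ) : ℚ)) := by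
    intro i
    obtain ⟨w, hw, hw'⟩ := single_sub_exists i
    have hW : ∀ m, 0 < m → W m ≤ ⨆ n : ℕ, Module.End.eigenspace inertia (((n + 1 : ℕ) : ℚ)) := by
      intro m hm
      obtain ⟨n, rfl⟩ := Nat.exists_eq_succ_of_ne_zero hm.ne'
      exact inf_le_left.trans (le_iSup (fun n : ℕ => Module.End.eigenspace inertia (((n + 1 : ℕ) : ℚ))) n)
    have := Submodule.add_mem _ (hW _ (centerCard_pos i) hw')
      ((iSup₂_le fun n hn => hW n (lt_trans (centerCard_pos i) hn) :
        (⨆ n > i.centerCard, W n) ≤ _) hw)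
    simpa using this
  rw [eq_top_iff]
  intro v _
  rw [← Finsupp.sum_single v]
  refine Submodule.sum_mem _ fun i _ => ?_
  show Finsupp.single i (v i) ∈ _
  rw [← mul_one (v i), ← smul_eq_mul, ← Finsupp.smul_single]
  exact Submodule.smul_mem _ _ (key i)

lemma eigenvector_exists (i : Idx) : ∃ v ∈ Module.End.eigenspace inertia (i.centerCard : ℚ), v ≠ 0 := by
  obtain ⟨w, hw, hw'⟩ := single_sub_exists i
  refine ⟨_, hw'.1, fun h => ?_⟩
  have hle : (⨆ n > i.centerCard, W n) ≤ Kge (i.centerCard + 1) := iSup₂_le fun n hn => inf_le_right.trans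
    (Finsupp.supported_mono fun j hj => le_trans (Nat.succ_le_of_lt hn) hj)
  have h0 : w i = 0 := by
    by_contra hne
    exact absurd ((Finsupp.mem_supported ℚ w).1 (hle hw) (Finsupp.mem_support_iff.2 hne))
      (by simp)
  have := congrArg (fun f : K => f i) h
  simp [h0] at this

/-- Every vector is a finite sum of eigenvectors. -/
lemma exists_decomp (v : K) : ∃ f : ℕ →₀ K,
    (∀ n : ℕ, f n ∈ Module.End.eigenspace inertia (n : ℚ)) ∧ (f.sum fun _ x => x) = v := by
  exact (Submodule.mem_iSup_iff_exists_finsupp _ v).1 (iSup_eigenspace_eq_top ▸ Submodule.mem_top)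

lemma inertiaR_decomp {f : ℕ →₀ K} (hf : ∀ n : ℕ, f n ∈ Module.End.eigenspace inertia (n : ℚ)) (r : ℕ) :
    inertiaR r (f.sum fun _ x => x) = ∑ n ∈ f.support, (n.descFactorial r : ℚ) • f n := by
  rw [Finsupp.sum, map_sum]
  exact Finset.sum_congr rfl fun n _ => inertiaR_eigen (hf n) r

theorem ker_inertiaR (r : ℕ) :
    LinearMap.ker (inertiaR r) = ⨆ k ∈ Finset.range r, Module.End.eigenspace inertia (k : ℚ) := by
  refine le_antisymm (fun v hv => ?_) (iSup₂_le fun k hk v hv => ?_)
  · obtain ⟨f, hf, rfl⟩ := exists_decomp v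
    rw [LinearMap.mem_ker, inertiaR_decomp hf r] at hv
    have hindep : iSupIndep fun n : ℕ => Module.End.eigenspace inertia (n : ℚ) :=
      (Module.End.eigenspaces_iSupIndep inertia).comp Nat.cast_injective
    have hzero : ∀ n ∈ f.support, (n.descFactorial r : ℚ) • f n = 0 :=
      (iSupIndep_iff_finsetSum_eq_zero_imp_eq_zero _).1 hindep f.support
        (fun n => (n.descFactorial r : ℚ) • f n) (fun n _ => Submodule.smul_mem _ _ (hf n)) hv
    refine Submodule.sum_mem _ fun n hn => ?_
    rcases smul_eq_zero.1 (hzero n hn) with h | h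
    · exact le_biSup (f := fun k : ℕ => Module.End.eigenspace inertia (k : ℚ))
        (Finset.mem_range.2 (Nat.descFactorial_eq_zero_iff_lt.1 (Nat.cast_eq_zero.1 h))) (hf n)
    · exact absurd h (Finsupp.mem_support_iff.1 hn)
  · rw [LinearMap.mem_ker, inertiaR_eigen hv,
      Nat.descFactorial_eq_zero_iff_lt.2 (Finset.mem_range.1 hk), Nat.cast_zero, zero_smul]

end Groth.Agent.GrpoidInertia
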