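import Groth.Agent.GrpoidInertia.Eigen
import Mathlib.Data.Nat.Choose.Sum
import Mathlib.Tactic.FieldSimp

/-!
# The eigenprojection formula
-/

set_option backward.isDefEq.respectTransparency false
set_option backward.isDefEq.respectTransparency.types false

open W4c5stacksedinertia

namespace Groth.Agent.GrpoidInertia

lemma alt_choose_sum (n k N : ℕ) (hN : n < N) :
    (∑ r ∈ Finset.range N, ((-1 : ℚ) ^ (r + k)) / (Nat.factorial r : ℚ) * (Nat.choose r k : ℚ) *
      (n.descFactorial r : ℚ)) = if n = k then 1 else 0 := by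
  have h1 : ∀ r, ((-1 : ℚ) ^ (r + k)) / (Nat.factorial r : ℚ) * (Nat.choose r k : ℚ) * (n.descFactorial r : ℚ) =
      (-1 : ℚ) ^ (r + k) * ((n.choose r * r.choose k : ℕ) : ℚ) := by
    intro r
    rw [Nat.descFactorial_eq_factorial_mul_choose, Nat.cast_mul, Nat.cast_mul]
    have := Nat.cast_ne_zero (R := ℚ).2 r.factorial_ne_zero
    field_simp
  rw [Finset.sum_congr rfl fun r _ => h1 r]
  rw [← Finset.sum_subset (Finset.range_mono (Nat.succ_le_of_lt hN)) (fun r _ hr => by
    rw [Finset.mem_range, not_lt] at hr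
    rw [Nat.choose_eq_zero_of_lt (Nat.lt_of_succ_le hr)]; simp)]
  by_cases hk : n < k
  · rw [if_neg hk.ne]
    refine Finset.sum_eq_zero fun r hr => ?_
    rw [Nat.choose_eq_zero_of_lt (lt_of_le_of_lt (Nat.lt_succ_iff.1 (Finset.mem_range.1 hr)) hk)]; simp
  · rw [not_lt] at hk
    obtain ⟨m, rfl⟩ := Nat.exists_eq_add_of_le hk
    rw [show (k + m).succ = k + (m + 1) from rfl, Finset.sum_range_add,
      Finset.sum_eq_zero (fun r hr => by rw [Nat.choose_eq_zero_of_lt (Finset.mem_range.1 hr)]; simp), zero_add]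
    have h2 : ∀ j ∈ Finset.range (m + 1), (-1 : ℚ) ^ (k + j + k) * (((k + m).choose (k + j) * (k + j).choose k : ℕ) : ℚ) =
        ((k + m).choose k : ℚ) * ((((-1 : ℤ) ^ j * (m.choose j : ℤ)) : ℤ) : ℚ) := by
      intro j hj
      rw [Nat.choose_mul (Nat.le_add_right k j), Nat.add_sub_cancel_left, Nat.add_sub_cancel_left]
      have he : (-1 : ℚ) ^ (k + j + k) = (-1) ^ j := by
        rw [show k + j + k = (k + k) + j by omega, pow_add, pow_add, ← mul_pow]; simp
      rw [he]
      push_cast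
      ring
    rw [Finset.sum_congr rfl h2, ← Finset.mul_sum, ← Int.cast_sum, Int.alternating_sum_range_choose]
    by_cases hm : m = 0
    · subst hm; simp
    · rw [if_neg hm, if_neg (by omega)]; simp

theorem projection (v : K) :
    (∀ k : ℕ, (∑ᶠ r : ℕ, (((-1 : ℚ) ^ (r + k)) / (Nat.factorial r : ℚ) * (Nat.choose r k : ℚ)) •
        inertiaR r v) ∈ Module.End.eigenspace inertia (k : ℚ)) ∧
    (∑ᶠ k : ℕ, ∑ᶠ r : ℕ, (((-1 : ℚ) ^ (r + k)) / (Nat.factorial r : ℚ) * (Nat.choose r k : ℚ)) •
        inertiaR r v) = v := by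
  obtain ⟨f, hf, rfl⟩ := exists_decomp v
  obtain ⟨N, hN⟩ : ∃ N, ∀ n ∈ f.support, n < N :=
    ⟨f.support.sup id + 1, fun n hn => Nat.lt_succ_of_le (Finset.le_sup (f := id) hn)⟩
  have hp : ∀ k, (∑ᶠ r : ℕ, (((-1 : ℚ) ^ (r + k)) / (Nat.factorial r : ℚ) * (Nat.choose r k : ℚ)) •
      inertiaR r (f.sum fun _ x => x)) = f k := by
    intro k
    simp only [inertiaR_decomp hf, Finset.smul_sum, smul_smul]
    rw [finsum_eq_sum_of_support_subset _ (s := Finset.range N) ?_]
    · rw [Finset.sum_comm]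
      have : ∀ n ∈ f.support, (∑ r ∈ Finset.range N, (((-1 : ℚ) ^ (r + k)) / (Nat.factorial r : ℚ) *
          (Nat.choose r k : ℚ) * (n.descFactorial r : ℚ)) • f n) = if n = k then f n else 0 := by
        intro n hn
        rw [← Finset.sum_smul, alt_choose_sum n k N (hN n hn)]
        split_ifs <;> simp
      rw [Finset.sum_congr rfl this, Finset.sum_ite_eq']
      split_ifs with h
      · rfl
      · exact (Finsupp.notMem_support_iff.1 h).symm
    · intro r hr
      rw [Finset.coe_range, Set.mem_Iio]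
      by_contra hrN
      rw [not_lt] at hrN
      refine hr (Finset.sum_eq_zero fun n hn => ?_)
      rw [Nat.descFactorial_eq_zero_iff_lt.2 (lt_of_lt_of_le (hN n hn) hrN)]
      simp
  refine ⟨fun k => by rw [hp k]; exact hf k, ?_⟩
  rw [finsum_congr hp, finsum_eq_sum_of_support_subset _ (s := f.support) (fun k hk => by simpa using hk)]
  rfl

end Groth.Agent.GrpoidInertia
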